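import Cfsg.Agent.Lib.Spor.Cos.RuOut.Defs

/-! The relations of the generators, decided beforehand. -/

set_option autoImplicit false
set_option maxRecDepth 100000
set_option maxHeartbeats 4000000

namespace Cfsg.Agent.Spor.Cos.RuOut

open Triple

/-- Which relations hold in the first generators. -/
def holdD : List (List Bool) := [[], [], [false], [true, false], [true, true, true, true, true]]

theorem hold_eq : relW.map (List.map relHolds) = holdD := by decide +kernel

theorem hold_getD (n : ℕ) : holdD.getD n [] = (relW.getD n []).map relHolds := by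
  rw [← hold_eq, List.getD_eq_getElem?_getD, List.getElem?_map, List.getD_eq_getElem?_getD]
  cases relW[n]? <;> rfl

theorem agree_false {R : List ℕ} (hl : (R.all fun s => Nat.blt s actA.n) = true)
    (h : sameW actA ptsA R [] = false) : agree actA ptsA R [] = false := by
  cases e : agree actA ptsA R []
  · rfl
  · rw [sameW, hl, e] at h
    exact h

theorem chk_of_fast {e : ℕ} (h : chkFast holdD e = true) : Tree6.chkEdge treeD actA ptsA e = true := by
  revert h
  unfold chkFast Tree6.chkEdge
  simp only [force_eq, treeD, Bool.and_eq_true, hold_getD]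
  intro h
  refine ⟨h.1, h.2.1, ?_⟩
  generalize edgeT.at _ = E at h ⊢
  cases hz : Nat.beq E 0
  · simpa [hz] using h.2.2
  · have h2 := h.2.2
    simp only [hz, Bool.cond_true, List.any_eq_true] at h2 ⊢
    obtain ⟨⟨r, b⟩, hm, h3⟩ := h2
    rw [List.zip_map_right] at hm
    obtain ⟨⟨r', r''⟩, hm', em⟩ := List.mem_map.1 hm
    obtain ⟨rfl, rfl⟩ : r' = r ∧ relHolds r'' = b := by simpa using em
    have hr : r'' = r' := by
      obtain ⟨i, hi, ei⟩ := List.mem_iff_getElem.1 hm'
      simp only [List.getElem_zip, Prod.mk.injEq] at ei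
      exact ei.2.symm.trans ei.1
    subst hr
    refine ⟨r'', (List.of_mem_zip hm').1, ?_⟩
    simp only [relR, Bool.and_eq_true] at h3 ⊢
    refine ⟨h3.1, ?_⟩
    cases hb : relHolds r''
    · rw [hb, Bool.cond_false] at h3
      rw [relHolds, relR] at hb
      rw [Bool.or_eq_true, Bool.and_eq_true, Bool.and_eq_true]
      exact Or.inr ⟨h3.2, by rw [agree_false h3.1.2 hb]; rfl⟩
    · rw [hb, Bool.cond_true] at h3
      rw [relHolds, relR] at hb
      rw [Bool.or_eq_true, Bool.and_eq_true]
      exact Or.inl ⟨hb, h3.2⟩

end Cfsg.Agent.Spor.Cos.RuOut
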