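import Cfsg.Agent.Lib.Spor.Cos.RuOut.Hold

/-! Data and checks for the automorphisms of a group on 4060 points. -/

set_option autoImplicit false
set_option maxRecDepth 100000
set_option maxHeartbeats 4000000

namespace Cfsg.Agent.Spor.Cos.RuOut

theorem tree_b10 : allBlock (chkFast holdD) 8346 214 10 = true := by decide +kernel

theorem tree_b11 : allBlock (chkFast holdD) 8346 214 11 = true := by decide +kernel

theorem tree_b12 : allBlock (chkFast holdD) 8346 214 12 = true := by decide +kernel

theorem tree_b13 : allBlock (chkFast holdD) 8346 214 13 = true := by decide +kernel

theorem tree_b14 : allBlock (chkFast holdD) 8346 214 14 = true := by decide +kernel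

theorem tree_b15 : allBlock (chkFast holdD) 8346 214 15 = true := by decide +kernel

theorem tree_b16 : allBlock (chkFast holdD) 8346 214 16 = true := by decide +kernel

theorem tree_b17 : allBlock (chkFast holdD) 8346 214 17 = true := by decide +kernel

theorem tree_b18 : allBlock (chkFast holdD) 8346 214 18 = true := by decide +kernel

theorem tree_b19 : allBlock (chkFast holdD) 8346 214 19 = true := by decide +kernel

end Cfsg.Agent.Spor.Cos.RuOut
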