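import Cfsg.Agent.Lib.Spor.Cos.RuOut.Hold

/-! Data and checks for the automorphisms of a group on 4060 points. -/

set_option autoImplicit false
set_option maxRecDepth 100000
set_option maxHeartbeats 4000000

namespace Cfsg.Agent.Spor.Cos.RuOut

theorem tree_b30 : allBlock (chkFast holdD) 8346 214 30 = true := by decide +kernel

theorem tree_b31 : allBlock (chkFast holdD) 8346 214 31 = true := by decide +kernel

theorem tree_b32 : allBlock (chkFast holdD) 8346 214 32 = true := by decide +kernel

theorem tree_b33 : allBlock (chkFast holdD) 8346 214 33 = true := by decide +kernel

theorem tree_b34 : allBlock (chkFast holdD) 8346 214 34 = true := by decide +kernel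

theorem tree_b35 : allBlock (chkFast holdD) 8346 214 35 = true := by decide +kernel

theorem tree_b36 : allBlock (chkFast holdD) 8346 214 36 = true := by decide +kernel

theorem tree_b37 : allBlock (chkFast holdD) 8346 214 37 = true := by decide +kernel

theorem tree_b38 : allBlock (chkFast holdD) 8346 214 38 = true := by decide +kernel

end Cfsg.Agent.Spor.Cos.RuOut
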