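import Cfsg.Agent.Lib.Spor.Cos.RuOut.TreeChk0
import Cfsg.Agent.Lib.Spor.Cos.RuOut.TreeChk1
import Cfsg.Agent.Lib.Spor.Cos.RuOut.TreeChk2
import Cfsg.Agent.Lib.Spor.Cos.RuOut.TreeChk3

/-! Data and checks for the automorphisms of a group on 4060 points. -/

set_option autoImplicit false
set_option maxRecDepth 100000
set_option maxHeartbeats 4000000

namespace Cfsg.Agent.Spor.Cos.RuOut

theorem tree_ok : ∀ i < 8346, (chkFast holdD) i = true := by
  refine of_blocks (size := 214) (b := 39) (by decide) (by decide) fun j hj => ?_
  interval_cases j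
  · exact tree_b0
  · exact tree_b1
  · exact tree_b2
  · exact tree_b3
  · exact tree_b4
  · exact tree_b5
  · exact tree_b6
  · exact tree_b7
  · exact tree_b8
  · exact tree_b9
  · exact tree_b10
  · exact tree_b11
  · exact tree_b12
  · exact tree_b13
  · exact tree_b14
  · exact tree_b15
  · exact tree_b16
  · exact tree_b17
  · exact tree_b18
  · exact tree_b19
  · exact tree_b20
  · exact tree_b21
  · exact tree_b22
  · exact tree_b23
  · exact tree_b24
  · exact tree_b25
  · exact tree_b26
  · exact tree_b27
  · exact tree_b28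
  · exact tree_b29
  · exact tree_b30
  · exact tree_b31
  · exact tree_b32
  · exact tree_b33
  · exact tree_b34
  · exact tree_b35
  · exact tree_b36
  · exact tree_b37
  · exact tree_b38

end Cfsg.Agent.Spor.Cos.RuOut
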