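import Cfsg.Agent.Lib.Spor.Cos.RuOut.Cent
import Cfsg.Agent.Lib.Spor.Cos.RuOut.TreeChk

/-!
The outer automorphism group of a group on 4060 points.
-/

set_option autoImplicit false
set_option maxRecDepth 100000
set_option maxHeartbeats 1000000

namespace Cfsg.Agent.Spor.Cos.RuOut

open Triple

theorem comm_chk : ∀ s < 3, sameW actA ptsA [s + 1, s] [s, s + 1] = true := by decide +kernel

theorem node_facts : ∀ i < nodeW.length,
    (i < 6 ∨ (nodeW.getD i []).length = 4) ∧ ((nodeW.getD i []).length = 4 → i = 6) := by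
  decide +kernel

/-- A conjugator to the fourth generator. -/
def conj3W : List ℕ := [1, 6, 5, 4, 3, 6, 3, 6, 3, 4, 3, 0, 5, 1, 3]

theorem conj_chk : ((List.range 4).all fun k => (conj3W :: nodeD).any fun d =>
    sameW actA ptsA (d ++ ([0] ++ d.reverse)) [k]) = true := by decide +kernel

theorem gen_conj {k : ℕ} (hk : k < 4) : IsConj (g 0) (g k) := by
  obtain ⟨d, -, h⟩ := List.any_eq_true.1 (List.all_eq_true.1 conj_chk k (List.mem_range.2 hk))
  have hl : ∀ s ∈ d, s < 7 := fun s hs => by
    simp only [sameW, Bool.and_eq_true, List.all_append, List.all_eq_true] at h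
    exact Nat.le_of_ble_eq_true (h.1.1.1 s hs)
  have e := eq_of_same h
  rw [ev_append, ev_append, ev_reverse (fun s _ => g_sq s) _ hl, ← mul_assoc, show ev g [k] = g k from mul_one _,
    ev_zero] at e
  exact isConj_iff.2 ⟨_, e⟩

theorem top_chk : ∀ s < 4, sameW actA ptsA ((nodeW.getD 6 []).getD s []) [s] = true := by decide +kernel

theorem tree_facts : 0 < nodeW.length ∧ invW.length = 1391 ∧ nodeW.getD 0 [] = [[0]] := by decide +kernel

/-- Every automorphism is inner on the generators. -/
theorem exists_form (φ : MulAut H) : ∃ c : H, ∀ s < 4, φ (g s) = c * g s * c⁻¹ := by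
  obtain ⟨c, i, hi, hlen, h⟩ := Tree6.exists_node_class homA pts_lt det g_sq (D := treeD) (n := 4) (by decide)
    tree_facts.2.2 (fun s hs => g_ne (by omega))
    (fun s hs => by
      have := eq_of_same (comm_chk s (by omega))
      simpa [ev] using this)
    (P := IsConj (g 0))
    (fun ψ k hk => (cls ψ).trans ((ψ : H →* H).map_isConj (gen_conj hk)))
    (fun x hx h2 hne hc => invol x hx h2 hne hc) cls (fun i hi hlt j hj => by
      have h6 : i < 6 := ((node_facts i hi).1).resolve_right (fun e => by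
        exact absurd hlt (not_lt.2 e.ge))
      have hj' : j < 1391 := tree_facts.2.1 ▸ hj
      have := chk_of_fast (tree_ok (i * 1391 + j) (by omega))
      show Tree6.chkEdge treeD actA ptsA (i * invW.length + j) = true
      rw [tree_facts.2.1]
      exact this)
    tree_facts.1 φ 4 (by norm_num) le_rfl
  obtain rfl := (node_facts i hi).2 hlen
  refine ⟨c, fun s hs => ?_⟩
  rw [h s hs, show ev g ((treeD.nodes.getD 6 []).getD s []) = ev g [s] from eq_of_same (top_chk s hs)]
  simp [ev]

theorem card_out : Nat.card (Cfsg.Out H) = 1 := by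
  refine Nat.card_eq_one_iff_unique.2 ⟨⟨fun a b => ?_⟩, ⟨1⟩⟩
  suffices key : ∀ x : Cfsg.Out H, x = 1 by rw [key a, key b]
  intro x
  obtain ⟨φ, rfl⟩ := QuotientGroup.mk_surjective x
  obtain ⟨c, hc⟩ := exists_form φ
  refine (QuotientGroup.eq_one_iff _).2 ⟨c, ?_⟩
  refine MulEquiv.toMonoidHom_injective (MonoidHom.eq_of_eqOn_dense g_gen ?_)
  rintro _ ⟨s, hs, rfl⟩
  exact (hc s hs).symm

end Cfsg.Agent.Spor.Cos.RuOut
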